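import Cfsg.Agent.Lib.SylowLie.L34.Parabolic
import Cfsg.Agent.Lib.Coprime.Gaschutz

/-!
# Central extensions of `PSL₃(4)` by elementary abelian 2-groups
-/

set_option autoImplicit false
set_option linter.unusedSectionVars false
set_option linter.style.haveILetI false

namespace CfsgLib.SylowLie.L34

open Subgroup Matrix
open CfsgLib.AutPSL (unitri mem_unitri proj projU sylowU)

variable {X : Type*} [Group X] [Finite X] {F : Type*} [Field F] [Fintype F]

local notation "PSL3" => Matrix.ProjectiveSpecialLinearGroup (Fin 3) F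
local notation "Zc" => Subgroup.center X
local notation "qf" => QuotientGroup.mk' (Subgroup.center X)

theorem mem_of_map {H : Subgroup X} (hZ : Zc ≤ H) {x : X} (hx : qf x ∈ H.map qf) : x ∈ H := by
  have h : x ∈ (H.map qf).comap qf := hx
  rwa [comap_map_eq_self ((QuotientGroup.ker_mk' _).le.trans hZ)] at h

/-- Coordinates of the quotient sending a Sylow subgroup to the standard one and `H` to `pA`. -/
structure Chart (T H : Subgroup X) (e : (X ⧸ Subgroup.center X) ≃* PSL3) : Prop where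
  hTU : (T.map qf).map e.toMonoidHom = projU
  hHA : (H.map qf).map e.toMonoidHom = pA
  hZT : Zc ≤ T
  hZH : Zc ≤ H

variable {T H : Subgroup X} {e : (X ⧸ Subgroup.center X) ≃* Matrix.ProjectiveSpecialLinearGroup (Fin 3) F}

theorem Chart.mem_iff (C : Chart T H e) {x : X} : x ∈ H ↔ e (qf x) ∈ (pA : Subgroup PSL3) := by
  rw [← C.hHA]
  constructor
  · exact fun h => ⟨_, ⟨x, h, rfl⟩, rfl⟩
  · rintro ⟨y, hy, hye⟩
    exact mem_of_map C.hZH ((e.injective hye) ▸ hy)

theorem Chart.le (C : Chart T H e) : H ≤ T := by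
  intro x hx
  have h : e (qf x) ∈ (T.map qf).map e.toMonoidHom := by rw [C.hTU]; exact pA_le (C.mem_iff.1 hx)
  obtain ⟨y, hy, hye⟩ := h
  exact mem_of_map C.hZT ((e.injective hye) ▸ hy)

theorem Chart.mem_normalizer_iff (C : Chart T H e) {x : X} :
    x ∈ normalizer (H : Set X) ↔ e (qf x) ∈ normalizer ((pA : Subgroup PSL3) : Set PSL3) := by
  rw [Subgroup.mem_normalizer_iff, Subgroup.mem_normalizer_iff]
  constructor
  · intro h y
    obtain ⟨z, rfl⟩ : ∃ z, e (qf z) = y :=
      ⟨(QuotientGroup.mk'_surjective _ (e.symm y)).choose, by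
        rw [(QuotientGroup.mk'_surjective _ (e.symm y)).choose_spec, e.apply_symm_apply]⟩
    rw [← map_inv, ← map_inv, ← map_mul, ← map_mul, ← map_mul, ← map_mul, ← C.mem_iff, ← C.mem_iff]
    exact h z
  · intro h z
    rw [C.mem_iff, C.mem_iff, map_mul, map_mul, map_mul, map_mul, map_inv, map_inv]
    exact h _

theorem Chart.T_le_normalizer (C : Chart T H e) : T ≤ normalizer (H : Set X) := fun x hx =>
  C.mem_normalizer_iff.2 (projU_le_normalizer (C.hTU.le ⟨_, ⟨x, hx, rfl⟩, rfl⟩))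

theorem Chart.mem_of_commute (C : Chart T H e) {x : X} (hx : x ∈ T) (h : ∀ y ∈ H, Commute x y) :
    x ∈ H := by
  refine C.mem_iff.2 (mem_pA_of_commute (C.hTU.le ⟨_, ⟨x, hx, rfl⟩, rfl⟩) fun a ha => ?_)
  obtain ⟨_, ⟨y, hy, rfl⟩, rfl⟩ := C.hHA.ge ha
  exact ((h y hy).map qf).map e.toMonoidHom

theorem Chart.elementary (C : Chart T H e) (hF : Fintype.card F = 4)
    (hZ : Cfsg.IsElementaryAbelian 2 (Subgroup.center X)) : Cfsg.IsElementaryAbelian 2 H := by
  haveI := charP_two hF
  have hne : ∀ {a b : F}, ¬ (a = 0 ∧ b = 0) → ∀ {x : X}, e (qf x) = proj (mkA a b) → x ∉ Zc := by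
    intro a b hab x hx hxZ
    refine proj_mkA_ne_one hab (hx.symm.trans ?_)
    rw [show qf x = 1 from (QuotientGroup.eq_one_iff x).2 hxZ, map_one]
  have hsqZ : ∀ h ∈ H, h * h ∈ Zc := by
    intro h hh
    obtain ⟨Y, hY, hYe⟩ := C.mem_iff.1 hh
    refine (QuotientGroup.eq_one_iff _).1 (e.injective ?_)
    show e (qf (h * h)) = e 1
    obtain ⟨e1, e2, e3⟩ := unitri_mul_apply hY.1 hY.1
    have hYY : Y * Y = 1 := by
      refine unitri_ext (mul_mem hY.1 hY.1) (one_mem _) ?_ ?_ ?_
      · rw [e1, CharTwo.add_self_eq_zero]; simp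
      · rw [e2, CharTwo.add_self_eq_zero]; simp
      · rw [e3, CharTwo.add_self_eq_zero, hY.2]; simp
    rw [map_mul, map_mul, ← hYe, ← map_mul, hYY, map_one, map_one]
  have hsame : ∀ h ∈ H, ∀ k ∈ H, h ∉ Zc → k ∉ Zc → h * h = k * k := by
    intro h hh k hk hhZ hkZ
    have h1 : ∀ {x : X}, x ∉ Zc → e (qf x) ≠ 1 := fun hx he =>
      hx ((QuotientGroup.eq_one_iff _).1 (e.injective (he.trans (map_one e).symm)))
    obtain ⟨D, hD⟩ := exists_psi_conj (C.mem_iff.1 hh) (C.mem_iff.1 hk) (h1 hhZ) (h1 hkZ)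
    obtain ⟨n, hn⟩ := QuotientGroup.mk'_surjective (Subgroup.center X) (e.symm (proj (psi D)))
    have hne' : e (qf (k⁻¹ * (n * h * n⁻¹))) = 1 := by
      rw [map_mul, map_mul, map_inv, map_inv, map_mul, map_mul, map_mul, map_mul, map_inv, map_inv,
        hn, e.apply_symm_apply, hD, inv_mul_cancel]
    have hz : k⁻¹ * (n * h * n⁻¹) ∈ Zc :=
      (QuotientGroup.eq_one_iff _).1 (e.injective (hne'.trans (map_one e).symm))
    set z := k⁻¹ * (n * h * n⁻¹) with hzdef
    calc h * h = n * (h * h) * n⁻¹ := by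
          rw [Subgroup.mem_center_iff.1 (hsqZ h hh) n, mul_inv_cancel_right]
      _ = (n * h * n⁻¹) * (n * h * n⁻¹) := by group
      _ = (k * z) * (k * z) := by rw [hzdef, mul_inv_cancel_left]
      _ = k * (z * k) * z := by group
      _ = k * (k * z) * z := by rw [Subgroup.mem_center_iff.1 hz k]
      _ = (k * k) * (z * z) := by group
      _ = k * k := by rw [← pow_two z, hZ.2 z hz, mul_one]
  obtain ⟨t, ht0, ht1⟩ : ∃ t : F, t ≠ 0 ∧ t ≠ 1 := by
    classical
    by_contra! h
    have h4 : (Finset.univ : Finset F) ⊆ {0, 1} := fun x _ => by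
      by_cases hx : x = 0
      · simp [hx]
      · simp [h x hx]
    have := (Finset.card_le_card h4).trans Finset.card_le_two
    rw [Finset.card_univ, hF] at this
    omega
  have lift : ∀ a b : F, ∃ x ∈ H, e (qf x) = proj (mkA a b) := by
    intro a b
    obtain ⟨_, ⟨x, hx, rfl⟩, hxe⟩ := C.hHA.ge ⟨_, mkA_mem a b, rfl⟩
    exact ⟨x, hx, hxe⟩
  obtain ⟨u, hu, hue⟩ := lift 1 0
  obtain ⟨v, hv, hve⟩ := lift 0 1
  obtain ⟨w, hw, hwe⟩ := lift t 0
  have hadd : ∀ {a b a' b' : F} {x y : X}, e (qf x) = proj (mkA a b) → e (qf y) = proj (mkA a' b') →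
      e (qf (x * y)) = proj (mkA (a + a') (b + b')) := by
    intro a b a' b' x y hx hy
    rw [map_mul, map_mul, hx, hy, ← map_mul]
    congr 1
    obtain ⟨e1, e2, e3⟩ := unitri_mul_apply (mkA_mem a b).1 (mkA_mem a' b').1
    refine unitri_ext (mul_mem (mkA_mem a b).1 (mkA_mem a' b').1) (mkA_mem _ _).1 ?_ ?_ ?_
    · rw [e1]; simp [mkA_val]
    · rw [e2]; simp [mkA_val]
    · rw [e3]; simp [mkA_val]
  set c := u * u with hc
  have hcZ : c ∈ Zc := hsqZ u hu
  have huZ : u ∉ Zc := hne (by simp) hue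
  have swap : ∀ x ∈ H, x ∉ Zc → u * x ∉ Zc → x * u = u * x * c := by
    intro x hx hxZ huxZ
    have hxx : x * x = c := hsame x hx u hu hxZ huZ
    have huu : (u * x) * (u * x) = c := hsame _ (mul_mem hu hx) u hu huxZ huZ
    have hcc : c * c = 1 := by rw [← pow_two]; exact hZ.2 c hcZ
    have h1 : x * u * x = u := mul_left_cancel (a := u) (by rw [← hc, ← huu]; group)
    calc x * u = (x * u * x) * x⁻¹ := by group
      _ = u * x⁻¹ := by rw [h1]
      _ = u * (x * (x * x)⁻¹) := by group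
      _ = u * x * c := by rw [hxx, inv_eq_of_mul_eq_one_right hcc]; group
  have hvw : e (qf (v * w)) = proj (mkA (0 + t) (1 + 0)) := hadd hve hwe
  have h1t : (1 : F) + t ≠ 0 := fun h => ht1 (CharTwo.add_eq_zero.1 h).symm
  have sv := swap v hv (hne (by simp) hve) (hne (by simp) (hadd hue hve))
  have sw := swap w hw (hne (by simp [ht0]) hwe) (hne (by simp [h1t]) (hadd hue hwe))
  have svw := swap (v * w) (mul_mem hv hw) (hne (by simp) hvw) (hne (by simp) (hadd hue hvw))
  have hc1 : c = 1 := by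
    have h1 : v * w * u = u * (v * w) := by
      calc v * w * u = v * (w * u) := mul_assoc _ _ _
        _ = v * (u * w * c) := by rw [sw]
        _ = (v * u) * w * c := by group
        _ = (u * v * c) * w * c := by rw [sv]
        _ = u * v * (c * w) * c := by group
        _ = u * v * (w * c) * c := by rw [Subgroup.mem_center_iff.1 hcZ w]
        _ = u * (v * w) * (c * c) := by group
        _ = u * (v * w) := by rw [← pow_two, hZ.2 c hcZ, mul_one]
    rw [h1] at svw
    exact left_eq_mul.1 svw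
  have h2 : ∀ h ∈ H, h * h = 1 := by
    intro h hh
    by_cases hhZ : h ∈ Zc
    · rw [← pow_two]; exact hZ.2 h hhZ
    · rw [hsame h hh u hu hhZ huZ, ← hc, hc1]
  refine ⟨⟨⟨fun a b => Subtype.ext ?_⟩⟩, fun a ha => by rw [pow_two]; exact h2 a ha⟩
  have hab := h2 _ (mul_mem a.2 b.2)
  calc (a : X) * b = a * ((a * b) * (a * b)) * b := by rw [hab, mul_one]
    _ = ((a : X) * a) * ((b : X) * a) * ((b : X) * b) := by group
    _ = b * a := by rw [h2 _ a.2, h2 _ b.2, one_mul, mul_one]

theorem exists_compl {K : Subgroup X} (hK : Cfsg.IsElementaryAbelian 2 K) (H : Subgroup X) :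
    ∃ A : Subgroup X, A ≤ K ∧ A ⊓ H = ⊥ ∧ (H ⊓ K) ⊔ A = K := by
  obtain ⟨A, ⟨hA, hAH⟩, hmax⟩ :=
    (Set.toFinite {A : Subgroup X | A ≤ K ∧ A ⊓ H = ⊥}).exists_maximal ⟨⊥, bot_le, bot_inf_eq H⟩
  refine ⟨A, hA, hAH, le_antisymm (sup_le inf_le_right hA) fun k hk => ?_⟩
  by_contra hkn
  have hkA : k ∉ A := fun h => hkn (mem_sup_right h)
  let A' : Subgroup X :=
    { carrier := {x | x ∈ A ∨ x * k ∈ A}
      one_mem' := Or.inl (one_mem _)
      mul_mem' := by
        have hcomm : ∀ a ∈ K, ∀ b ∈ K, a * b = b * a := fun a ha b hb =>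
          congrArg Subtype.val (hK.1.is_comm.comm (⟨a, ha⟩ : K) ⟨b, hb⟩)
        have hkk : k * k = 1 := by rw [← pow_two]; exact hK.2 k hk
        have hmemK : ∀ a, a * k ∈ A → a ∈ K := fun a ha => by
          have := mul_mem (hA ha) hk
          rwa [mul_assoc, hkk, mul_one] at this
        rintro a b (ha | ha) (hb | hb)
        · exact Or.inl (mul_mem ha hb)
        · exact Or.inr (by rw [mul_assoc]; exact mul_mem ha hb)
        · refine Or.inr ?_
          rw [mul_assoc, hcomm b (hA hb) k hk, ← mul_assoc]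
          exact mul_mem ha hb
        · refine Or.inl ?_
          have e : a * b = (a * k) * (b * k) := by
            rw [hcomm b (hmemK b hb) k hk, ← mul_assoc, mul_assoc a k k, hkk, mul_one]
          rw [e]
          exact mul_mem ha hb
      inv_mem' := by
        have hcomm : ∀ a ∈ K, ∀ b ∈ K, a * b = b * a := fun a ha b hb =>
          congrArg Subtype.val (hK.1.is_comm.comm (⟨a, ha⟩ : K) ⟨b, hb⟩)
        rintro a (ha | ha)
        · exact Or.inl (inv_mem ha)
        · refine Or.inr ?_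
          have hkk : k * k = 1 := by rw [← pow_two]; exact hK.2 k hk
          have haK : a ∈ K := by
            have := mul_mem (hA ha) hk
            rwa [mul_assoc, hkk, mul_one] at this
          have e : a⁻¹ * k = (a * k)⁻¹ := by
            rw [_root_.mul_inv_rev, inv_eq_of_mul_eq_one_right hkk, hcomm _ (inv_mem haK) k hk]
          rw [e]
          exact inv_mem ha }
  have hkk : k * k = 1 := by rw [← pow_two]; exact hK.2 k hk
  have hA'K : A' ≤ K := by
    rintro a (ha | ha)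
    · exact hA ha
    · have := mul_mem (hA ha) hk
      rwa [mul_assoc, hkk, mul_one] at this
  have hA'H : A' ⊓ H = ⊥ := by
    rw [eq_bot_iff]
    rintro a ⟨ha | ha, haH⟩
    · rw [← hAH]; exact ⟨ha, haH⟩
    · refine absurd ?_ hkn
      have haK : a ∈ K := hA'K (Or.inr ha)
      have e : k = a⁻¹ * (a * k) := by group
      rw [e]
      exact mul_mem (mem_sup_left ⟨H.inv_mem haH, K.inv_mem haK⟩) (mem_sup_right ha)
  exact hkA (hmax ⟨hA'K, hA'H⟩ (fun a ha => Or.inl ha) (Or.inr (by rw [hkk]; exact one_mem _)))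

theorem Chart.exists_complement (C : Chart T H e) (hF : Fintype.card F = 4)
    (hZ : Cfsg.IsElementaryAbelian 2 (Subgroup.center X)) (hT : ∀ P : Sylow 2 X, (P : Subgroup X) = T →
      ¬ 2 ∣ (P : Subgroup X).index) (P : Sylow 2 X) (hP : (P : Subgroup X) = T) {K : Subgroup X}
    (hK : Cfsg.IsElementaryAbelian 2 K) (hsup : H ⊔ K = T) :
    ∃ L : Subgroup X, L ≤ normalizer (H : Set X) ∧ L ⊓ H = ⊥ ∧ H ⊔ L = normalizer (H : Set X) ∧
      Nonempty (↥L ≃* Matrix.ProjectiveSpecialLinearGroup (Fin 2) F) := by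
  haveI := charP_two hF
  haveI : Fact (Nat.Prime 2) := ⟨Nat.prime_two⟩
  set Y := normalizer (H : Set X) with hYdef
  have hHY : H ≤ Y := le_normalizer
  have hTY : T ≤ Y := C.T_le_normalizer
  obtain ⟨A, hAK, hAH, hsupA⟩ := exists_compl hK H
  have hAT : A ≤ T := hAK.trans (le_sup_right.trans hsup.le)
  have hHA : H ⊔ A = T := by
    refine le_antisymm (sup_le C.le hAT) (hsup.ge.trans (sup_le le_sup_left ?_))
    calc K = (H ⊓ K) ⊔ A := hsupA.symm
      _ ≤ H ⊔ A := sup_le_sup_right inf_le_left A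
  haveI : (H.subgroupOf Y).Normal := Subgroup.normal_in_normalizer
  haveI : IsMulCommutative H := (C.elementary hF hZ).1
  haveI : IsMulCommutative (H.subgroupOf Y) :=
    ⟨⟨fun a b => Subtype.ext (Subtype.ext (show ((a : Y) : X) * ((b : Y) : X) = ((b : Y) : X) * ((a : Y) : X) from
      congrArg Subtype.val
        ((C.elementary hF hZ).1.is_comm.comm (⟨((a : Y) : X), a.2⟩ : H) ⟨((b : Y) : X), b.2⟩)))⟩⟩
  have D : CfsgLib.Coprime.GzData (H.subgroupOf Y) (T.subgroupOf Y) (A.subgroupOf Y) :=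
    ⟨comap_mono hAT, by
        show A.comap Y.subtype ⊓ H.comap Y.subtype = ⊥
        rw [← comap_inf, hAH]; exact (MonoidHom.comap_bot _).trans (Y.ker_subtype),
      by rw [← subgroupOf_sup hHY (hAT.trans hTY), hHA]⟩
  have hcop : (Nat.card ↥(H.subgroupOf Y)).Coprime (T.subgroupOf Y).index := by
    rw [Nat.card_congr (subgroupOfEquivOfLe hHY).toEquiv]
    obtain ⟨n, hn⟩ := IsPGroup.iff_card.1 ((P.2).to_le (C.le.trans hP.ge))
    rw [hn]
    refine Nat.Coprime.pow_left n ((Nat.Prime.coprime_iff_not_dvd Nat.prime_two).2 fun h => hT P hP ?_)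
    rw [hP]
    exact h.trans (Subgroup.relIndex_dvd_index_of_le hTY)
  obtain ⟨L₀, hL₀⟩ := CfsgLib.Coprime.gaschutz_exists D hcop
  refine ⟨L₀.map Y.subtype, map_subtype_le _, ?_, ?_, ?_⟩
  · rw [eq_bot_iff]
    rintro _ ⟨⟨y, hy, rfl⟩, hyH⟩
    have : y ∈ (⊥ : Subgroup Y) := hL₀.disjoint.le_bot ⟨hyH, hy⟩
    rw [Subgroup.mem_bot] at this
    rw [Subgroup.mem_bot, this]; rfl
  · have := congrArg (Subgroup.map Y.subtype) hL₀.sup_eq_top
    rwa [Subgroup.map_sup, map_subgroupOf_eq_of_le hHY, ← MonoidHom.range_eq_map, Y.range_subtype] at this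
  · -- the complement maps isomorphically onto a complement of `pA` in its normalizer
    set N := normalizer ((pA : Subgroup PSL3) : Set PSL3) with hNdef
    let φ : L₀ →* N :=
      { toFun := fun l => ⟨e (qf ((l : Y) : X)), C.mem_normalizer_iff.1 (l : Y).2⟩
        map_one' := Subtype.ext (by simp)
        map_mul' := fun a b => Subtype.ext (by simp) }
    have hφA : ∀ l, (φ l : PSL3) ∈ (pA : Subgroup PSL3) → l = 1 := by
      intro l hl
      have : (l : Y) ∈ (⊥ : Subgroup Y) := hL₀.disjoint.le_bot ⟨C.mem_iff.2 hl, l.2⟩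
      exact Subtype.ext (Subgroup.mem_bot.1 this)
    have hφi : Function.Injective φ := (injective_iff_map_eq_one φ).2 fun l hl =>
      hφA l (by rw [hl]; exact one_mem _)
    haveI : ((pA : Subgroup PSL3).subgroupOf N).Normal := Subgroup.normal_in_normalizer
    have c1 : Subgroup.IsComplement' φ.range ((pA : Subgroup PSL3).subgroupOf N) := by
      refine isComplement'_of_disjoint_and_mul_eq_univ ?_ (Set.eq_univ_of_forall fun g => ?_)
      · rw [disjoint_iff, eq_bot_iff]
        rintro _ ⟨⟨l, rfl⟩, hl⟩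
        rw [Subgroup.mem_bot, hφA l hl, map_one]
      · obtain ⟨x, hx⟩ := QuotientGroup.mk'_surjective (Subgroup.center X) (e.symm g)
        have hxg : e (qf x) = g := by rw [hx, e.apply_symm_apply]
        have hxY : x ∈ Y := C.mem_normalizer_iff.2 (hxg ▸ g.2)
        have htop : (⟨x, hxY⟩ : Y) ∈ L₀ ⊔ H.subgroupOf Y := by
          rw [sup_comm, hL₀.sup_eq_top]; exact mem_top _
        obtain ⟨l, hl, h, hh, hlh⟩ := mem_sup_of_normal_right.1 htop
        have hhA : e (qf (h : X)) ∈ (pA : Subgroup PSL3) := C.mem_iff.1 hh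
        refine ⟨_, ⟨⟨l, hl⟩, rfl⟩, ⟨e (qf (h : X)), C.mem_normalizer_iff.1 h.2⟩, hhA, Subtype.ext ?_⟩
        show e (qf (l : X)) * e (qf (h : X)) = g
        rw [← map_mul, ← map_mul, ← hxg]
        exact congrArg (fun y : Y => e (qf (y : X))) hlh
    let θ : Matrix.SpecialLinearGroup (Fin 2) F →* N :=
      { toFun := fun D => ⟨proj (psi D), psi_mem_normalizer D⟩
        map_one' := Subtype.ext (by simp)
        map_mul' := fun a b => Subtype.ext (by simp) }
    have hθi : Function.Injective θ := fun a b h => projPsi_injective (congrArg Subtype.val h)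
    have c2 : Subgroup.IsComplement' θ.range ((pA : Subgroup PSL3).subgroupOf N) := by
      refine isComplement'_of_disjoint_and_mul_eq_univ ?_ (Set.eq_univ_of_forall fun g => ?_)
      · rw [disjoint_iff, eq_bot_iff]
        rintro _ ⟨⟨E, rfl⟩, hE⟩
        rw [Subgroup.mem_bot, psi_inter hE, map_one]
      · obtain ⟨a, ha, E, hg⟩ := exists_decomp hF g.2
        have ha' : (proj (psi E))⁻¹ * a * proj (psi E) ∈ (pA : Subgroup PSL3) := by
          have h := (Subgroup.mem_normalizer_iff.1 (inv_mem (psi_mem_normalizer E)) a).1 ha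
          rwa [inv_inv] at h
        refine ⟨_, ⟨E, rfl⟩, ⟨_, le_normalizer ha'⟩, ha', Subtype.ext ?_⟩
        show proj (psi E) * ((proj (psi E))⁻¹ * a * proj (psi E)) = g
        rw [hg]; group
    refine ⟨((L₀.equivMapOfInjective _ Y.subtype_injective).symm.trans (MonoidHom.ofInjective hφi)).trans
      ((c1.QuotientMulEquiv.symm.trans c2.QuotientMulEquiv).trans
        ((MonoidHom.ofInjective hθi).symm.trans ?_))⟩
    exact (QuotientGroup.quotientBot.symm.trans
      (QuotientGroup.quotientMulEquivOfEq center_SL2_eq_bot.symm))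

theorem exists_equiv_projU (P : Sylow 2 X) [CharP F 2]
    (e₀ : (X ⧸ Subgroup.center X) ≃* PSL3) :
    ∃ e : (X ⧸ Subgroup.center X) ≃* PSL3, ((P : Subgroup X).map qf).map e.toMonoidHom = projU := by
  haveI : Fact (Nat.Prime 2) := ⟨Nat.prime_two⟩
  let f : X →* PSL3 := e₀.toMonoidHom.comp qf
  have hf : Function.Surjective f := e₀.surjective.comp (QuotientGroup.mk'_surjective _)
  obtain ⟨g, hg⟩ := MulAction.exists_smul_eq PSL3 (P.mapSurjective (f := f) hf) (sylowU (n := 3) (F := F) (p := 2))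
  refine ⟨e₀.trans (MulAut.conj g), ?_⟩
  have h := congrArg (fun Q : Sylow 2 PSL3 => (Q : Subgroup PSL3)) hg
  simp only [Sylow.coe_subgroup_smul, Sylow.coe_mapSurjective] at h
  refine Eq.trans ?_ h
  rw [Subgroup.map_map]
  ext x
  constructor
  · rintro ⟨y, hy, rfl⟩
    exact ⟨f y, ⟨y, hy, rfl⟩, rfl⟩
  · rintro ⟨_, ⟨y, hy, rfl⟩, rfl⟩
    exact ⟨y, hy, rfl⟩

theorem exists_chart (hF : Fintype.card F = 4) {T H : Subgroup X} (hHT : H ≤ T) (hZH : Zc ≤ H)
    (hH : Cfsg.IsElementaryAbelian 2 (H.map qf) ∧ Nat.card ↥(H.map qf) = 16)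
    {e : (X ⧸ Subgroup.center X) ≃* PSL3} (he : (T.map qf).map e.toMonoidHom = projU) :
    ((H.map qf).map e.toMonoidHom = pA ∨ (H.map qf).map e.toMonoidHom = pB) ∧
      ∃ e' : (X ⧸ Subgroup.center X) ≃* PSL3, Chart T H e' := by
  have hle : (H.map qf).map e.toMonoidHom ≤ projU := he ▸ map_mono (map_mono hHT)
  have hcard : Nat.card ↥((H.map qf).map e.toMonoidHom) = 16 := by
    rw [Subgroup.card_map_of_injective (f := e.toMonoidHom) e.injective, hH.2]
  have hel : Cfsg.IsElementaryAbelian 2 ((H.map qf).map e.toMonoidHom) := by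
    refine ⟨⟨⟨fun a b => Subtype.ext ?_⟩⟩, ?_⟩
    · obtain ⟨a', ha, hae⟩ := a.2
      obtain ⟨b', hb, hbe⟩ := b.2
      show (a : PSL3) * b = b * a
      rw [← hae, ← hbe, ← map_mul, ← map_mul,
        show a' * b' = b' * a' from congrArg Subtype.val (hH.1.1.is_comm.comm ⟨a', ha⟩ ⟨b', hb⟩)]
    · rintro _ ⟨a, ha, rfl⟩
      rw [← map_pow, hH.1.2 a ha, map_one]
  have hcase := eq_pA_or_pB hF _ hle hcard hel
  refine ⟨hcase, ?_⟩
  rcases hcase with h | h
  · exact ⟨e, he, h, hZH.trans hHT, hZH⟩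
  · refine ⟨e.trans flipP.symm, ?_, ?_, hZH.trans hHT, hZH⟩
    · rw [show (e.trans flipP.symm).toMonoidHom = flipP.symm.toMonoidHom.comp e.toMonoidHom from rfl,
        ← Subgroup.map_map, he]
      conv_lhs => rw [← map_flipP_projU]
      rw [Subgroup.map_map, show flipP.symm.toMonoidHom.comp flipP.toMonoidHom = MonoidHom.id _ from
        MonoidHom.ext flipP.symm_apply_apply, Subgroup.map_id]
    · rw [show (e.trans flipP.symm).toMonoidHom = flipP.symm.toMonoidHom.comp e.toMonoidHom from rfl,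
        ← Subgroup.map_map, h, pB, Subgroup.map_map,
        show flipP.symm.toMonoidHom.comp flipP.toMonoidHom = MonoidHom.id _ from
        MonoidHom.ext flipP.symm_apply_apply, Subgroup.map_id]

theorem sup_eq_sylow (hF : Fintype.card F = 4) {T H K : Subgroup X} (hne : H ≠ K) (hHT : H ≤ T)
    (hKT : K ≤ T) (hZH : Zc ≤ H) (hZK : Zc ≤ K)
    (hH : Cfsg.IsElementaryAbelian 2 (H.map qf) ∧ Nat.card ↥(H.map qf) = 16)
    (hK : Cfsg.IsElementaryAbelian 2 (K.map qf) ∧ Nat.card ↥(K.map qf) = 16)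
    {e : (X ⧸ Subgroup.center X) ≃* PSL3} (he : (T.map qf).map e.toMonoidHom = projU) :
    H ⊔ K = T := by
  have h1 := (exists_chart hF hHT hZH hH he).1
  have h2 := (exists_chart hF hKT hZK hK he).1
  have hker : ∀ {S : Subgroup X}, Zc ≤ S → (S.map qf).comap qf = S := fun hS =>
    comap_map_eq_self ((QuotientGroup.ker_mk' _).le.trans hS)
  have hne' : (H.map qf).map e.toMonoidHom ≠ (K.map qf).map e.toMonoidHom := fun h => hne (by
    rw [← hker hZH, ← hker hZK, Subgroup.map_injective (f := e.toMonoidHom) e.injective h])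
  have hsup : ((H ⊔ K).map qf).map e.toMonoidHom = (T.map qf).map e.toMonoidHom := by
    rw [Subgroup.map_sup, Subgroup.map_sup, he, projU_eq_sup]
    rcases h1 with a | a <;> rcases h2 with b | b <;> rw [a, b] at hne' ⊢
    · exact absurd rfl hne'
    · exact sup_comm _ _
    · exact absurd rfl hne'
  rw [← hker (le_sup_of_le_left hZH : Zc ≤ H ⊔ K), ← hker (hZH.trans hHT),
    Subgroup.map_injective (f := e.toMonoidHom) e.injective hsup]

end CfsgLib.SylowLie.L34
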