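import Cfsg.Agent.Lib.SylowLie.SLThree

/-!
# The two maximal parabolic subgroups of `PSL₃(4)` over the upper unitriangular group
-/

set_option autoImplicit false
set_option linter.unusedSectionVars false
set_option linter.style.haveILetI false

namespace CfsgLib.SylowLie.L34

open Subgroup Matrix
open CfsgLib.AutPSL (unitri mem_unitri proj projU)

variable {F : Type*} [Field F] [Fintype F]

local notation "SL3" => Matrix.SpecialLinearGroup (Fin 3) F
local notation "SL2" => Matrix.SpecialLinearGroup (Fin 2) F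
local notation "PSL3" => Matrix.ProjectiveSpecialLinearGroup (Fin 3) F

theorem unitri_inv_apply {X : SL3} (hX : X ∈ unitri) :
    (X⁻¹).1 0 1 = -X.1 0 1 ∧ (X⁻¹).1 1 2 = -X.1 1 2 := by
  obtain ⟨h1, h2, -⟩ := unitri_mul_apply hX (inv_mem hX)
  rw [mul_inv_cancel, Matrix.SpecialLinearGroup.coe_one] at h1 h2
  simp only [Matrix.one_apply, Fin.reduceEq, if_false] at h1 h2
  exact ⟨by linear_combination -h1, by linear_combination -h2⟩

/-- The unitriangular matrices with vanishing entry `(1, 2)`. -/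
def asl : Subgroup SL3 where
  carrier := {X | X ∈ (unitri : Subgroup SL3) ∧ X.1 1 2 = 0}
  mul_mem' {X Y} hX hY :=
    ⟨mul_mem hX.1 hY.1, by rw [(unitri_mul_apply hX.1 hY.1).2.1, hX.2, hY.2, add_zero]⟩
  one_mem' := ⟨one_mem _, by simp⟩
  inv_mem' {X} hX := ⟨inv_mem hX.1, by rw [(unitri_inv_apply hX.1).2, hX.2, neg_zero]⟩

/-- Its image in `PSL₃`. -/
def pA : Subgroup PSL3 := (asl : Subgroup SL3).map proj

theorem pA_le : (pA : Subgroup PSL3) ≤ projU := map_mono fun _ hX => hX.1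

/-- A standard element of `asl`. -/
def mkA (a b : F) : SL3 := ⟨!![1, a, b; 0, 1, 0; 0, 0, 1], by simp [Matrix.det_fin_three]⟩

theorem mkA_mem (a b : F) : mkA a b ∈ (asl : Subgroup SL3) := by
  refine ⟨mem_unitri.2 ⟨fun i j hij => ?_, fun i => ?_⟩, by simp [mkA]⟩
  · fin_cases i <;> fin_cases j <;> simp_all [mkA]
  · fin_cases i <;> simp [mkA]

theorem eq_mkA {X : SL3} (hX : X ∈ (asl : Subgroup SL3)) : X = mkA (X.1 0 1) (X.1 0 2) :=
  unitri_ext hX.1 (mkA_mem _ _).1 (by simp [mkA]) (by rw [hX.2]; simp [mkA]) (by simp [mkA])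

theorem eq_one_of_center {X : SL3} (hc : X ∈ Subgroup.center SL3) (h00 : X.1 0 0 = 1) : X = 1 := by
  obtain ⟨c, -, hc⟩ := Matrix.SpecialLinearGroup.mem_center_iff.1 hc
  rw [← hc] at h00
  have hc1 : c = 1 := by simpa using h00
  refine Subtype.ext ?_
  rw [← hc, hc1]; simp

theorem proj_eq_iff {X Y : SL3} : proj X = proj Y ↔ X⁻¹ * Y ∈ Subgroup.center SL3 :=
  QuotientGroup.eq

theorem proj_inj {X Y : SL3} (hX : X ∈ unitri) (hY : Y ∈ unitri) (h : proj X = proj Y) : X = Y := by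
  refine inv_mul_eq_one.1 (eq_one_of_center (proj_eq_iff.1 h) ?_)
  exact (mem_unitri.1 (mul_mem (inv_mem hX) hY)).2 0

theorem proj_mkA_ne_one {a b : F} (h : ¬ (a = 0 ∧ b = 0)) : proj (mkA a b) ≠ 1 := by
  intro e
  have := proj_inj (mkA_mem a b).1 (one_mem _) (e.trans (map_one proj).symm)
  have h1 := congrArg (fun X : SL3 => X.1 0 1) this
  have h2 := congrArg (fun X : SL3 => X.1 0 2) this
  simp [mkA] at h1 h2
  exact h ⟨h1, h2⟩

theorem mem_pA_of_commute {x : PSL3} (hx : x ∈ projU) (h : ∀ a ∈ (pA : Subgroup PSL3), Commute x a) :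
    x ∈ (pA : Subgroup PSL3) := by
  obtain ⟨X, hX, rfl⟩ := hx
  have hc := proj_inj (mul_mem hX (mkA_mem 1 0).1) (mul_mem (mkA_mem 1 0).1 hX)
    (by rw [map_mul, map_mul]; exact h _ ⟨_, mkA_mem 1 0, rfl⟩)
  have := (unitri_commute_iff hX (mkA_mem 1 0).1).1 hc
  simp [mkA] at this
  exact ⟨X, ⟨hX, this.symm⟩, rfl⟩

theorem projU_le_normalizer : (projU : Subgroup PSL3) ≤ normalizer ((pA : Subgroup PSL3) : Set PSL3) := by
  have key : ∀ Y ∈ (unitri : Subgroup SL3), ∀ X ∈ (asl : Subgroup SL3), Y * X * Y⁻¹ ∈ (asl : Subgroup SL3) := by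
    intro Y hY X hX
    refine ⟨mul_mem (mul_mem hY hX.1) (inv_mem hY), ?_⟩
    rw [(unitri_mul_apply (mul_mem hY hX.1) (inv_mem hY)).2.1, (unitri_mul_apply hY hX.1).2.1,
      (unitri_inv_apply hY).2, hX.2]
    ring
  rintro _ ⟨Y, hY, rfl⟩
  rw [Subgroup.mem_normalizer_iff]
  intro x
  constructor
  · rintro ⟨X, hX, rfl⟩
    exact ⟨_, key Y hY X hX, by rw [map_mul, map_mul, map_inv]⟩
  · rintro ⟨X, hX, hXe⟩
    exact ⟨_, key _ (inv_mem hY) X hX, by simp only [map_mul, map_inv, hXe]; group⟩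

/-- The block matrix of an element of `SL₂`. -/
def psiM (D : SL2) : SL3 := ⟨!![1, 0, 0; 0, D.1 0 0, D.1 0 1; 0, D.1 1 0, D.1 1 1], by
    have h := D.2
    rw [Matrix.det_fin_two] at h
    simp [Matrix.det_fin_three]
    linear_combination h⟩

theorem psiM_val (D : SL2) :
    (psiM D).1 = !![1, 0, 0; 0, D.1 0 0, D.1 0 1; 0, D.1 1 0, D.1 1 1] := rfl

theorem mkA_val (a b : F) : (mkA a b).1 = !![1, a, b; 0, 1, 0; 0, 0, 1] := rfl

/-- The block embedding of `SL₂`. -/
def psi : SL2 →* SL3 where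
  toFun := psiM
  map_one' := by
    refine Subtype.ext ?_
    rw [psiM_val, Matrix.SpecialLinearGroup.coe_one, Matrix.SpecialLinearGroup.coe_one]
    ext i j
    fin_cases i <;> fin_cases j <;> simp
  map_mul' D E := by
    refine Subtype.ext ?_
    rw [psiM_val, Matrix.SpecialLinearGroup.coe_mul, Matrix.SpecialLinearGroup.coe_mul, psiM_val,
      psiM_val]
    ext i j
    fin_cases i <;> fin_cases j <;> simp [Matrix.mul_apply, Fin.sum_univ_three, Fin.sum_univ_two]

theorem psi_val (D : SL2) :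
    (psi D).1 = !![1, 0, 0; 0, D.1 0 0, D.1 0 1; 0, D.1 1 0, D.1 1 1] := rfl

theorem psi_mul_mkA (D : SL2) (a b : F) :
    psi D * mkA a b = mkA (a * D.1 1 1 - b * D.1 1 0) (b * D.1 0 0 - a * D.1 0 1) * psi D := by
  have h := D.2
  rw [Matrix.det_fin_two] at h
  refine Subtype.ext ?_
  rw [Matrix.SpecialLinearGroup.coe_mul, Matrix.SpecialLinearGroup.coe_mul, psi_val, mkA_val, mkA_val]
  ext i j
  fin_cases i <;> fin_cases j <;>
    simp [Matrix.mul_apply, Fin.sum_univ_three] <;>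
    first | linear_combination -a * h | linear_combination -b * h

theorem exists_sl2 (p q r s : F) (h : p * s - q * r = 1) :
    ∃ D : SL2, D.1 0 0 = p ∧ D.1 0 1 = q ∧ D.1 1 0 = r ∧ D.1 1 1 = s :=
  ⟨⟨!![p, q; r, s], by simpa [Matrix.det_fin_two] using h⟩, by simp, by simp, by simp, by simp⟩

theorem conj_psi_mem (D : SL2) {X : SL3} (hX : X ∈ (asl : Subgroup SL3)) :
    psi D * X * (psi D)⁻¹ ∈ (asl : Subgroup SL3) := by
  rw [eq_mkA hX, psi_mul_mkA, mul_inv_cancel_right]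
  exact mkA_mem _ _

theorem psi_mem_normalizer (D : SL2) : proj (psi D) ∈ normalizer ((pA : Subgroup PSL3) : Set PSL3) := by
  rw [Subgroup.mem_normalizer_iff]
  intro x
  constructor
  · rintro ⟨X, hX, rfl⟩
    exact ⟨_, conj_psi_mem D hX, by rw [map_mul, map_mul, map_inv]⟩
  · rintro ⟨X, hX, hXe⟩
    exact ⟨_, conj_psi_mem D⁻¹ hX, by simp only [map_mul, map_inv, hXe]; group⟩

theorem exists_psi_conj {x y : PSL3} (hx : x ∈ (pA : Subgroup PSL3)) (hy : y ∈ (pA : Subgroup PSL3))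
    (hx1 : x ≠ 1) (hy1 : y ≠ 1) : ∃ D : SL2, proj (psi D) * x * (proj (psi D))⁻¹ = y := by
  have base : ∀ z ∈ (pA : Subgroup PSL3), z ≠ 1 →
      ∃ D : SL2, proj (psi D) * proj (mkA 1 0) * (proj (psi D))⁻¹ = z := by
    rintro _ ⟨Z, hZ, rfl⟩ hz1
    obtain ⟨a, b, rfl⟩ : ∃ a b, Z = mkA a b := ⟨_, _, eq_mkA hZ⟩
    by_cases ha : a = 0
    · subst ha
      have hb : b ≠ 0 := by
        rintro rfl
        refine hz1 ?_
        rw [show mkA (0 : F) 0 = 1 from Subtype.ext (Matrix.ext fun i j => by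
          fin_cases i <;> fin_cases j <;> simp [mkA]), map_one]
      obtain ⟨D, d00, d01, -, d11⟩ := exists_sl2 0 (-b) b⁻¹ 0 (by field_simp; ring)
      refine ⟨D, ?_⟩
      rw [← map_mul, psi_mul_mkA, map_mul, mul_inv_cancel_right, d00, d01, d11]
      simp
    · obtain ⟨D, d00, d01, d10, d11⟩ := exists_sl2 a⁻¹ (-b) 0 a (by field_simp; ring)
      refine ⟨D, ?_⟩
      rw [← map_mul, psi_mul_mkA, map_mul, mul_inv_cancel_right, d00, d01, d10, d11]
      simp
  obtain ⟨D, hD⟩ := base x hx hx1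
  obtain ⟨E, hE⟩ := base y hy hy1
  refine ⟨E * D⁻¹, ?_⟩
  rw [← hE, ← hD, map_mul, map_inv, map_mul, map_inv]
  group

theorem psi_inter {D : SL2} (h : proj (psi D) ∈ (pA : Subgroup PSL3)) : D = 1 := by
  obtain ⟨X, hX, hXe⟩ := h
  have hc := proj_eq_iff.1 hXe
  rw [eq_mkA hX] at hc
  have e : psi D = mkA (X.1 0 1) (X.1 0 2) := by
    refine (inv_mul_eq_one.1 (eq_one_of_center hc ?_)).symm
    have h1 := (mem_unitri.1 (inv_mem (mkA_mem (X.1 0 1) (X.1 0 2)).1)).2 0
    rw [Matrix.SpecialLinearGroup.coe_mul, Matrix.mul_apply, Fin.sum_univ_three, h1]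
    simp [psi_val]
  have e' := fun i j => congrArg (fun Y : SL3 => Y.1 i j) e
  have a := e' 1 1
  have b := e' 1 2
  have c := e' 2 1
  have d := e' 2 2
  simp [psi_val, mkA_val] at a b c d
  refine Subtype.ext (Matrix.ext fun i j => ?_)
  fin_cases i <;> fin_cases j <;> simp [a, b, c, d]

theorem projPsi_injective : Function.Injective ((proj (n := 3) (F := F)).comp psi) :=
  (injective_iff_map_eq_one _).2 fun _ h => psi_inter (h ▸ one_mem _)

theorem center_SL2_eq_bot [CharP F 2] : Subgroup.center SL2 = ⊥ := by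
  rw [eq_bot_iff]
  intro D hD
  obtain ⟨c, hc2, hc⟩ := Matrix.SpecialLinearGroup.mem_center_iff.1 hD
  have hc1 : c = 1 := by
    have h2 : c ^ 2 = 1 := by simpa using hc2
    have h : (c + 1) * (c + 1) = 0 := by
      linear_combination h2 + (c + 1) * (CharTwo.two_eq_zero : (2 : F) = 0)
    exact CharTwo.add_eq_zero.1 (mul_self_eq_zero.1 h)
  refine Subgroup.mem_bot.2 (Subtype.ext ?_)
  rw [← hc, hc1]; simp

section Four

variable (hF : Fintype.card F = 4)

include hF

theorem pow_three_eq_one {d : F} (hd : d ≠ 0) : d ^ 3 = 1 := by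
  simpa [hF] using FiniteField.pow_card_sub_one_eq_one d hd

theorem charP_two : CharP F 2 := by
  obtain ⟨p, hp⟩ := CharP.exists F
  haveI := hp
  obtain ⟨n, hpp, hn⟩ := FiniteField.card F p
  rw [hF] at hn
  have : p ∣ 2 ^ 2 := by norm_num; rw [hn]; exact dvd_pow_self p n.pos.ne'
  rw [(Nat.prime_dvd_prime_iff_eq hpp Nat.prime_two).1 (hpp.dvd_of_dvd_pow this)] at hp
  exact hp

theorem exists_decomp {g : PSL3} (hg : g ∈ normalizer ((pA : Subgroup PSL3) : Set PSL3)) :
    ∃ a ∈ (pA : Subgroup PSL3), ∃ D : SL2, g = a * proj (psi D) := by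
  haveI := charP_two hF
  obtain ⟨G, rfl⟩ := QuotientGroup.mk'_surjective (Subgroup.center SL3) g
  obtain ⟨X, hX, hXe⟩ := (Subgroup.mem_normalizer_iff.1 hg _).1 ⟨_, mkA_mem 1 0, rfl⟩
  have h2 : ∀ Y ∈ (asl : Subgroup SL3), Y * Y = 1 := by
    intro Y hY
    obtain ⟨e1, e2, e3⟩ := unitri_mul_apply hY.1 hY.1
    refine unitri_ext (mul_mem hY.1 hY.1) (one_mem _) ?_ ?_ ?_
    · rw [e1, CharTwo.add_self_eq_zero]; simp
    · rw [e2, CharTwo.add_self_eq_zero]; simp
    · rw [e3, CharTwo.add_self_eq_zero, hY.2]; simp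
  set W := G * mkA 1 0 * G⁻¹ with hW
  have hμ : X⁻¹ * W ∈ Subgroup.center SL3 := by
    refine proj_eq_iff.1 (hXe.trans ?_)
    rw [hW, map_mul, map_mul, map_inv]
  have hXW : W = X := by
    set μ := X⁻¹ * W with hμe
    have hWμ : W = X * μ := by rw [hμe, mul_inv_cancel_left]
    have hW2 : W * W = 1 := by
      rw [hW, show G * mkA 1 0 * G⁻¹ * (G * mkA 1 0 * G⁻¹) = G * (mkA 1 0 * mkA 1 0) * G⁻¹ by group,
        h2 _ (mkA_mem 1 0)]
      group
    have hμ2 : μ * μ = 1 := by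
      have : μ * X = X * μ := (Subgroup.mem_center_iff.1 hμ X).symm
      calc μ * μ = (X * X) * (μ * μ) := by rw [h2 X hX, one_mul]
        _ = X * (X * μ) * μ := by group
        _ = X * (μ * X) * μ := by rw [this]
        _ = W * W := by rw [hWμ]; group
        _ = 1 := hW2
    obtain ⟨c, hc3, hc⟩ := Matrix.SpecialLinearGroup.mem_center_iff.1 hμ
    have h := congrArg (fun Y : SL3 => Y.1 0 0) hμ2
    simp only [Matrix.SpecialLinearGroup.coe_mul, Matrix.SpecialLinearGroup.coe_one] at h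
    rw [← hc] at h
    simp [Matrix.mul_apply, Fin.sum_univ_three] at h
    have hc1 : c = 1 := by
      have : (c + 1) * (c + 1) = 0 := by
        linear_combination h + (c + 1) * (CharTwo.two_eq_zero : (2 : F) = 0)
      exact CharTwo.add_eq_zero.1 (mul_self_eq_zero.1 this)
    rw [hWμ, show μ = 1 from Subtype.ext (by rw [← hc, hc1]; simp), mul_one]
  have hGX : G * mkA 1 0 = X * G := by rw [← hXW, hW, inv_mul_cancel_right]
  have g10 : G.1 1 0 = 0 := by
    have h := congrArg (fun Y : SL3 => Y.1 1 1) hGX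
    rw [eq_mkA hX] at h
    simp [mkA_val, Matrix.SpecialLinearGroup.coe_mul, Matrix.mul_apply, Fin.sum_univ_three] at h
    exact h
  have g20 : G.1 2 0 = 0 := by
    have h := congrArg (fun Y : SL3 => Y.1 2 1) hGX
    rw [eq_mkA hX] at h
    simp [mkA_val, Matrix.SpecialLinearGroup.coe_mul, Matrix.mul_apply, Fin.sum_univ_three] at h
    exact h
  have hdet := G.2
  rw [Matrix.det_fin_three, g10, g20] at hdet
  have hd : G.1 0 0 ≠ 0 := fun h => by simp [h] at hdet
  set e : F := (G.1 0 0)⁻¹ with he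
  have he1 : e * G.1 0 0 = 1 := inv_mul_cancel₀ hd
  have he3 : e ^ 3 = 1 := pow_three_eq_one hF (inv_ne_zero hd)
  let M : SL3 := ⟨Matrix.scalar (Fin 3) e, by simp [he3]⟩
  have hM : M ∈ Subgroup.center SL3 :=
    Matrix.SpecialLinearGroup.mem_center_iff.2 ⟨e, by simpa using he3, rfl⟩
  obtain ⟨D, d00, d01, d10, d11⟩ := exists_sl2 (e * G.1 1 1) (e * G.1 1 2) (e * G.1 2 1) (e * G.1 2 2)
    (by linear_combination (e ^ 3) * hdet + he3 -
      (e ^ 2) * (G.1 1 1 * G.1 2 2 - G.1 1 2 * G.1 2 1) * he1)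
  have hDdet := D.2
  rw [Matrix.det_fin_two] at hDdet
  refine ⟨_, ⟨_, mkA_mem (e * G.1 0 1 * D.1 1 1 - e * G.1 0 2 * D.1 1 0)
    (e * G.1 0 2 * D.1 0 0 - e * G.1 0 1 * D.1 0 1), rfl⟩, D, ?_⟩
  rw [← map_mul]
  refine proj_eq_iff.2 ?_
  have heq : mkA (e * G.1 0 1 * D.1 1 1 - e * G.1 0 2 * D.1 1 0)
      (e * G.1 0 2 * D.1 0 0 - e * G.1 0 1 * D.1 0 1) * psi D = M * G := by
    refine Subtype.ext ?_
    rw [Matrix.SpecialLinearGroup.coe_mul, Matrix.SpecialLinearGroup.coe_mul,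
      show (M.1 : Matrix (Fin 3) (Fin 3) F) = Matrix.scalar (Fin 3) e from rfl,
      Matrix.scalar_apply, mkA_val, psi_val]
    ext i j
    rw [Matrix.diagonal_mul]
    fin_cases i <;> fin_cases j <;>
      simp [Matrix.mul_apply, Fin.sum_univ_three, g10, g20, d00, d01, d10, d11] at hDdet ⊢ <;>
      first
        | exact he1.symm
        | linear_combination (e * G.1 0 1) * hDdet
        | linear_combination (e * G.1 0 2) * hDdet
  rw [heq, (Subgroup.mem_center_iff.1 hM G).symm, inv_mul_cancel_left]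
  exact hM

theorem card_pA_le : Nat.card ↥(pA : Subgroup PSL3) ≤ 16 := by
  let f : ↥(pA : Subgroup PSL3) → F × F := fun x =>
    ((Classical.choose (Subgroup.mem_map.1 x.2)).1 0 1, (Classical.choose (Subgroup.mem_map.1 x.2)).1 0 2)
  have hf : Function.Injective f := by
    intro x y h
    have hx := Classical.choose_spec (Subgroup.mem_map.1 x.2)
    have hy := Classical.choose_spec (Subgroup.mem_map.1 y.2)
    refine Subtype.ext ?_
    rw [← hx.2, ← hy.2, eq_mkA hx.1, eq_mkA hy.1]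
    simp only [f, Prod.ext_iff] at h
    rw [h.1, h.2]
  have := Nat.card_le_card_of_injective f hf
  simpa [Nat.card_prod, Nat.card_eq_fintype_card, hF] using this

end Four

/-- Transpose inverse followed by reversing the coordinates. -/
def flipHom : SL3 →* SL3 where
  toFun g := ⟨((g⁻¹).1.transpose).submatrix Fin.rev Fin.rev, by
    show (((g⁻¹).1.transpose).submatrix Fin.revPerm Fin.revPerm).det = 1
    rw [Matrix.det_submatrix_equiv_self, Matrix.det_transpose]
    exact (g⁻¹).2⟩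
  map_one' := by
    refine Subtype.ext ?_
    rw [inv_one]
    simp [Matrix.submatrix_one _ Fin.rev_injective]
  map_mul' g h := by
    refine Subtype.ext ?_
    simp only [_root_.mul_inv_rev, Matrix.SpecialLinearGroup.coe_mul, Matrix.transpose_mul]
    exact Matrix.submatrix_mul _ _ Fin.rev Fin.rev Fin.rev Fin.rev_bijective

theorem flipHom_apply (g : SL3) (i j : Fin 3) : (flipHom g).1 i j = (g⁻¹).1 j.rev i.rev := rfl

theorem flipHom_flipHom (g : SL3) : flipHom (flipHom g) = g := by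
  refine Subtype.ext (Matrix.ext fun i j => ?_)
  rw [flipHom_apply, ← map_inv, flipHom_apply, inv_inv, Fin.rev_rev, Fin.rev_rev]

/-- The graph automorphism of `SL₃`. -/
def flipEquiv : SL3 ≃* SL3 :=
  { flipHom with invFun := flipHom, left_inv := flipHom_flipHom, right_inv := flipHom_flipHom }

/-- The graph automorphism of `PSL₃`. -/
noncomputable def flipP : PSL3 ≃* PSL3 :=
  QuotientGroup.congr (Subgroup.center SL3) (Subgroup.center SL3) flipEquiv (by
    ext x
    constructor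
    · rintro ⟨y, hy, rfl⟩
      refine Subgroup.mem_center_iff.2 fun z => ?_
      obtain ⟨w, rfl⟩ := flipEquiv.surjective z
      show flipEquiv w * flipEquiv y = flipEquiv y * flipEquiv w
      rw [← map_mul, ← map_mul, Subgroup.mem_center_iff.1 hy w]
    · intro hx
      refine ⟨flipEquiv.symm x, Subgroup.mem_center_iff.2 fun z => flipEquiv.injective ?_,
        flipEquiv.apply_symm_apply x⟩
      rw [map_mul, map_mul, MulEquiv.apply_symm_apply, Subgroup.mem_center_iff.1 hx])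

theorem flipP_proj (X : SL3) : flipP (proj X) = proj (flipHom X) := rfl

theorem flipHom_mem {X : SL3} (hX : X ∈ unitri) :
    flipHom X ∈ (unitri : Subgroup SL3) ∧ (flipHom X).1 1 2 = -X.1 0 1 := by
  obtain ⟨h1, h2⟩ := mem_unitri.1 (inv_mem hX)
  refine ⟨mem_unitri.2 ⟨fun i j hij => ?_, fun i => ?_⟩, ?_⟩
  · rw [flipHom_apply]
    exact h1 (Fin.rev_lt_rev.2 hij)
  · rw [flipHom_apply]
    exact h2 _
  · rw [flipHom_apply]
    exact (unitri_inv_apply hX).1

theorem map_flipP_projU : (projU : Subgroup PSL3).map flipP.toMonoidHom = projU := by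
  refine le_antisymm ?_ ?_
  · rintro _ ⟨_, ⟨X, hX, rfl⟩, rfl⟩
    exact ⟨_, (flipHom_mem hX).1, (flipP_proj X).symm⟩
  · rintro _ ⟨X, hX, rfl⟩
    exact ⟨_, ⟨_, (flipHom_mem hX).1, rfl⟩, (flipP_proj _).trans (by rw [flipHom_flipHom])⟩

/-- The other maximal elementary abelian subgroup. -/
noncomputable def pB : Subgroup PSL3 := (pA : Subgroup PSL3).map flipP.toMonoidHom

theorem mem_pB {X : SL3} (hX : X ∈ unitri) (h : X.1 0 1 = 0) : proj X ∈ (pB : Subgroup PSL3) := by
  obtain ⟨h1, h2⟩ := flipHom_mem hX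
  refine ⟨_, ⟨_, ⟨h1, by rw [h2, h, neg_zero]⟩, rfl⟩, ?_⟩
  exact (flipP_proj _).trans (by rw [flipHom_flipHom])

theorem pB_le : (pB : Subgroup PSL3) ≤ projU := (map_mono pA_le).trans map_flipP_projU.le

theorem projU_eq_sup : (projU : Subgroup PSL3) = pA ⊔ pB := by
  refine le_antisymm ?_ (sup_le pA_le pB_le)
  rintro _ ⟨X, hX, rfl⟩
  have hinv := mul_mem (inv_mem (mkA_mem (X.1 0 1) 0).1) hX
  have h01 : ((mkA (X.1 0 1) 0)⁻¹ * X).1 0 1 = 0 := by
    rw [(unitri_mul_apply (inv_mem (mkA_mem (X.1 0 1) 0).1) hX).1,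
      (unitri_inv_apply (mkA_mem (X.1 0 1) 0).1).1]
    simp [mkA]
  have : proj X = proj (mkA (X.1 0 1) 0) * proj ((mkA (X.1 0 1) 0)⁻¹ * X) := by
    rw [← map_mul, mul_inv_cancel_left]
  rw [this]
  exact mul_mem (mem_sup_left ⟨_, mkA_mem _ _, rfl⟩) (mem_sup_right (mem_pB hinv h01))

theorem eq_pA_or_pB (hF : Fintype.card F = 4) (E : Subgroup PSL3) (hE : E ≤ projU)
    (h16 : Nat.card E = 16) (hel : Cfsg.IsElementaryAbelian 2 E) : E = pA ∨ E = pB := by
  haveI := charP_two hF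
  by_cases h : ∃ X ∈ (unitri : Subgroup SL3), proj X ∈ E ∧ X.1 0 1 ≠ 0
  · obtain ⟨X, hX, hXE, ha⟩ := h
    have hX2 : X * X = 1 := proj_inj (mul_mem hX hX) (one_mem _) (by
      rw [map_mul, map_one, ← pow_two]; exact hel.2 _ hXE)
    have hc : X.1 1 2 = 0 := by
      have h3 := (unitri_mul_apply hX hX).2.2
      rw [hX2, CharTwo.add_self_eq_zero] at h3
      simp at h3
      exact h3.resolve_left ha
    left
    refine Subgroup.eq_of_le_of_card_ge ?_ (by rw [h16]; exact card_pA_le hF)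
    intro y hy
    obtain ⟨Y, hY, rfl⟩ := hE hy
    have hcom : X * Y = Y * X := proj_inj (mul_mem hX hY) (mul_mem hY hX) (by
      rw [map_mul, map_mul]
      exact congrArg Subtype.val (hel.1.is_comm.comm (⟨_, hXE⟩ : E) ⟨_, hy⟩))
    have := (unitri_commute_iff hX hY).1 hcom
    rw [hc, mul_zero] at this
    exact ⟨Y, ⟨hY, (mul_eq_zero.1 this).resolve_left ha⟩, rfl⟩
  · push Not at h
    right
    refine Subgroup.eq_of_le_of_card_ge ?_ ?_
    · intro y hy
      obtain ⟨Y, hY, rfl⟩ := hE hy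
      exact mem_pB hY (h Y hY hy)
    · rw [h16, pB, Subgroup.card_map_of_injective (f := flipP.toMonoidHom) flipP.injective]
      exact card_pA_le hF

end CfsgLib.SylowLie.L34
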